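import Mathlib
import Cfsg.Agent.Base
import Cfsg.Agent.Lib.Fischer.KB

/-!
# Word identities for an affine plane and one more point
-/

set_option autoImplicit false

namespace H56

variable {G : Type*} [Group G] {E : Set G}

def xk1_cert : List (List ℕ × List (List ℕ × ℕ)) :=
  [([1,0,1,0,1,0],[([],1)]),
  ([2,0,2,0,2,0],[([],3)]),
  ([2,1,2,1,2,1],[([],5)]),
  ([2,1,0,2,0,2,0,1,2,1],[([2,1],11),([],12)]),
  ([2,0,1,2,1,2,1,0,2,0],[([2,0],13),([],10)]),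
  ([2,0,1,2,0,1,0,1,0,2,1,0,2,0],[([2,0,1,2],9),([],16)]),
  ([1,2,0,1,0,2,0,1,0,2,1,0],[([],7),([0,1,2],8),([0,1,2,0,1,0,2],8)]),
  ([2,0,1,0,2,0,1,0,2,0,1,0],[([1],20),([],8)]),
  ([1,0,2,0,1,2,0,2,1,0,2,0],[([1],17),([1,2],9),([],13),([2],20),([],18)]),
  ([1,2,0,1,2,0,2,1,0,2,1,0],[([1,2,0,1,0],11),([],20)]),
  ([0,0,1,2,0,1,2,0,2,1,0,2,1,0],[([],26)]),
  ([1,0,1,2,0,1,2,1,2,1,0,2,1,0],[([],8),([0],24),([2,0,1],16),([],22),([0,1,0],10)]),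
  ([2,0,1,2,0,1,2,2,2,1,0,2,1,0],[([2,0,1],16),([],22),([0,1,0],10)]),
  ([0,1,2,0,1,2,0,1,2,0,1,2,0,1,2,0,1,2],[([0],26),([1],16),([1,0,2,0],8),([1,0],14),([],8),([0,1,0,2,1,0],12),([0,1,0,2],8),([0,1,0,2,0,1,0,2],8),([0,1,0],22)]),
  ([0,2,0,1,0,0,2,0,1,0,2,1,0,2,1,0],[([0],18),([2,0,1],16),([],22),([0,1,0],10)]),
  ([0,1,2,1,1,0,1,2,1,1,2,1,0,2,1,0],[]),
  ([0,2,0,1,0,2,2,0,2,0,1,0,2,2,2,1,0,2,1,0],[([0],18),([2,0,1],16),([],22),([0,1,0],10)])]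

theorem xk1_ok : (KB.chk xk1_cert [[0,1,0,1,0,1], [0,2,0,2,0,2], [1,2,1,2,1,2], [0,1,2,1,0,1,2,1,0,1,2,1]] &&
    ([[0,0,1,2,0,1,2,0,2,1,0,2,1,0], [1,0,1,2,0,1,2,1,2,1,0,2,1,0], [2,0,1,2,0,1,2,2,2,1,0,2,1,0], [0,1,2,0,1,2,0,1,2,0,1,2,0,1,2,0,1,2], [0,2,0,1,0,0,2,0,1,0,2,1,0,2,1,0], [0,1,2,1,1,0,1,2,1,1,2,1,0,2,1,0], [0,2,0,1,0,2,2,0,2,0,1,0,2,2,2,1,0,2,1,0]] : List (List ℕ)).all fun w => (xk1_cert.map Prod.fst).contains w) = true := by decide +kernel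

/-- the centre of the group of an affine plane -/
theorem Q3.xk1 (h : Q3 E) {x a b : G} (hx : x ∈ E) (ha : a ∈ E) (hb : b ∈ E)
    (h1 : ¬ Commute x a)
    (h2 : ¬ Commute x b)
    (h3 : ¬ Commute a b)
    (h4 : ¬ Commute x (a * b * a))
    : Commute x (x * a * b * x * a * b) ∧
      Commute a (x * a * b * x * a * b) ∧
      Commute b (x * a * b * x * a * b) ∧
      (x * a * b * x * a * b) * (x * a * b * x * a * b) = b * a * x * b * a * x ∧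
      x * b * (x * a * x) * x * b * (x * a * x) = x * a * b * x * a * b ∧
      x * (a * b * a) * a * x * (a * b * a) * a = x * a * b * x * a * b ∧
      x * (b * (x * a * x) * b) * b * x * (b * (x * a * x) * b) * b = x * a * b * x * a * b := by
  have K := KB.sound' (g := fun i => [x, a, b].getD i 1) (KB.getD_sq (by
    simp only [List.forall_mem_cons, KB.forall_nil, and_true]; exact ⟨h.sq _ hx, h.sq _ ha, h.sq _ hb⟩)) (by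
    simp only [List.forall_mem_cons, KB.forall_nil, and_true, KB.ev_cons, KB.ev_nil, List.getD_cons_zero, List.getD_cons_succ, mul_one]
    exact ⟨by simpa only [mul_assoc] using h.cube hx ha h1,
      by simpa only [mul_assoc] using h.cube hx hb h2,
      by simpa only [mul_assoc] using h.cube ha hb h3,
      by simpa only [mul_assoc] using h.cube hx (h.cl _ ha _ hb) h4⟩) xk1_ok
  simp only [List.forall_mem_cons, KB.forall_nil, and_true, KB.ev_cons, KB.ev_nil, List.getD_cons_zero, List.getD_cons_succ, mul_one] at K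
  exact ⟨commute_of_word' (by simpa only [mul_assoc, mul_inv_rev, inv_inv, h.inv hx, h.inv ha, h.inv hb] using K.1),
    commute_of_word' (by simpa only [mul_assoc, mul_inv_rev, inv_inv, h.inv hx, h.inv ha, h.inv hb] using K.2.1),
    commute_of_word' (by simpa only [mul_assoc, mul_inv_rev, inv_inv, h.inv hx, h.inv ha, h.inv hb] using K.2.2.1),
    eq_of_word' (by simpa only [mul_assoc, mul_inv_rev, inv_inv, h.inv hx, h.inv ha, h.inv hb] using K.2.2.2.1),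
    eq_of_word' (by simpa only [mul_assoc, mul_inv_rev, inv_inv, h.inv hx, h.inv ha, h.inv hb] using K.2.2.2.2.1),
    eq_of_word' (by simpa only [mul_assoc, mul_inv_rev, inv_inv, h.inv hx, h.inv ha, h.inv hb] using K.2.2.2.2.2.1),
    eq_of_word' (by simpa only [mul_assoc, mul_inv_rev, inv_inv, h.inv hx, h.inv ha, h.inv hb] using K.2.2.2.2.2.2)⟩

def xk2_cert : List (List ℕ × List (List ℕ × ℕ)) :=
  [([3,0,3,0],[([],8)]),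
  ([3,1,3,1],[([],10)]),
  ([1,0,1,0,1,0],[([],1)]),
  ([2,0,2,0,2,0],[([],3)]),
  ([2,1,2,1,2,1],[([],5)]),
  ([2,1,0,2,0,2,0,1,2,1],[([2,1],25),([],26)]),
  ([2,0,1,2,1,2,1,0,2,0],[([2,0],27),([],24)]),
  ([3,2,3,2,3,2],[([],12)]),
  ([3,2,0,3,0,2,3,2],[([3,2],19),([],32)]),
  ([3,2,1,3,1,2,3,2],[([3,2],21),([],32)]),
  ([3,2,0,1,3,1,0,2,3,2],[([3,2,0],21),([],34)]),
  ([3,2,1,0,3,0,1,2,3,2],[([3,2,1],19),([],36)]),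
  ([3,2,0,1,2,3,2,3,2,1,0,2,3,2],[([3,2,0,1],33),([],38)]),
  ([1,2,0,1,0,2,0,1,0,2,1,0],[([],7),([0,1,2],22),([0,1,2,0,1,0,2],22)]),
  ([2,0,1,0,2,0,1,0,2,0,1,0],[([1],44),([],22)]),
  ([1,3,2,0,1,0,2,0,1,0,2,3,1,0],[([],21),([3],44),([],18),([0],20)]),
  ([3,0,1,2,0,1,2,3,2,1,0,2,1,0,3,0,1,2,0,1,2,0,1,2,0,1,2,3,2,1,0,2,1,0,2,1,0,2,1,0],[([],18),([0],20),([0,1],42),([0,1,2,3,2,0,1,2],20),([0,1,2,3],30),([0,1,2],18),([0,1,2,0,3,2,0,1,2],18),([0,1,2,0,3,2,0,1,2,0],40),([0,1,2,0,3,2,0,1],24),([0,1,2,0,3],46),([0,1,2,0],18),([0,1,2],20),([0,1,2,1],18),([0,1,2,1,0],38),([0,1,2,1,0,2,3,2,0],22),([0,1,2,1,0,2,3],28),([0,1,2,1,0,2],20),([0,1,2,1,0,2,1,3,2,1,0],26),([0,1,2,1,0,2,1,3,2],22),([0,1,2,1,0,2],48),([0,1],28),([0,2,1,0,2,1,3,2,0],22),([0,2,1,0],26),([0,2],22),([0],46),([1,0],30),([1,2,0,1],24),([],44)])]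

theorem xk2_ok : (KB.chk xk2_cert [[0,1,0,1,0,1], [0,2,0,2,0,2], [1,2,1,2,1,2], [0,1,2,1,0,1,2,1,0,1,2,1], [3,0,3,0], [3,1,3,1], [3,2,3,2,3,2], [3,1,2,1,3,1,2,1,3,1,2,1], [3,2,0,1,0,2,3,2,0,1,0,2,3,2,0,1,0,2]] &&
    ([[3,0,1,2,0,1,2,3,2,1,0,2,1,0,3,0,1,2,0,1,2,0,1,2,0,1,2,3,2,1,0,2,1,0,2,1,0,2,1,0]] : List (List ℕ)).all fun w => (xk2_cert.map Prod.fst).contains w) = true := by decide +kernel

/-- points perpendicular to a line of the plane -/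
theorem Q3.xk2 (h : Q3 E) {x a b y : G} (hx : x ∈ E) (ha : a ∈ E) (hb : b ∈ E) (hy : y ∈ E)
    (h1 : ¬ Commute x a)
    (h2 : ¬ Commute x b)
    (h3 : ¬ Commute a b)
    (h4 : ¬ Commute x (a * b * a))
    (h5 : Commute y x)
    (h6 : Commute y a)
    (h7 : ¬ Commute y b)
    (h8 : ¬ Commute y (a * b * a))
    (h9 : ¬ Commute y (b * (x * a * x) * b))
    : y * ((x * a * b * x * a * b) * y * (x * a * b * x * a * b)⁻¹) * y = (x * a * b * x * a * b) * ((x * a * b * x * a * b) * y * (x * a * b * x * a * b)⁻¹) * (x * a * b * x * a * b)⁻¹ := by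
  have K := KB.sound' (g := fun i => [x, a, b, y].getD i 1) (KB.getD_sq (by
    simp only [List.forall_mem_cons, KB.forall_nil, and_true]; exact ⟨h.sq _ hx, h.sq _ ha, h.sq _ hb, h.sq _ hy⟩)) (by
    simp only [List.forall_mem_cons, KB.forall_nil, and_true, KB.ev_cons, KB.ev_nil, List.getD_cons_zero, List.getD_cons_succ, mul_one]
    exact ⟨by simpa only [mul_assoc] using h.cube hx ha h1,
      by simpa only [mul_assoc] using h.cube hx hb h2,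
      by simpa only [mul_assoc] using h.cube ha hb h3,
      by simpa only [mul_assoc] using h.cube hx (h.cl _ ha _ hb) h4,
      by simpa only [mul_assoc] using h.four hy hx h5,
      by simpa only [mul_assoc] using h.four hy ha h6,
      by simpa only [mul_assoc] using h.cube hy hb h7,
      by simpa only [mul_assoc] using h.cube hy (h.cl _ ha _ hb) h8,
      by simpa only [mul_assoc] using h.cube hy (h.cl _ hb _ (h.cl _ hx _ ha)) h9⟩) xk2_ok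
  simp only [List.forall_mem_cons, KB.forall_nil, and_true, KB.ev_cons, KB.ev_nil, List.getD_cons_zero, List.getD_cons_succ, mul_one] at K
  exact eq_of_word' (by simpa only [mul_assoc, mul_inv_rev, inv_inv, h.inv hx, h.inv ha, h.inv hb, h.inv hy] using K)

def xk2c_cert : List (List ℕ × List (List ℕ × ℕ)) :=
  [([3,0,3,0],[([],8)]),
  ([3,1,3,1],[([],10)]),
  ([1,0,1,0,1,0],[([],1)]),
  ([2,0,2,0,2,0],[([],3)]),
  ([2,1,2,1,2,1],[([],5)]),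
  ([2,1,0,2,0,2,0,1,2,1],[([2,1],27),([],28)]),
  ([2,0,1,2,1,2,1,0,2,0],[([2,0],29),([],26)]),
  ([3,2,3,2,3,2],[([],12)]),
  ([3,2,0,3,0,2,3,2],[([3,2],21),([],34)]),
  ([3,2,0,1,3,1,0,2,3,2],[([3,2,0],23),([],36)]),
  ([2,0,1,2,0,1,0,1,0,2,1,0,2,0],[([2,0,1,2],25),([],32)]),
  ([3,2,0,1,2,3,2,3,2,1,0,2,3,2],[([3,2,0,1],35),([],38)]),
  ([3,2,0,1,2,0,3,2,0,2,3,0,2,1,0,2,3,2],[([3,2,0,1,2],21),([3,2,0,1,2,3],27),([],42),([2,3,2,0,1,2],20)]),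
  ([1,2,0,1,0,2,0,1,0,2,1,0],[([],7),([0,1,2],24),([0,1,2,0,1,0,2],24)]),
  ([1,0,2,0,1,2,0,2,1,0,2,0],[([1],33),([1,2],25),([],29),([2],46),([],40)]),
  ([1,0,3,2,0,1,2,0,2,1,0,2,3,0],[([1],21),([],23),([3],48),([],20)]),
  ([1,0,2,3,2,0,1,2,3,2,3,0,2,1,0,2,3,0],[([1,0],43),([],50)]),
  ([1,0,2,0,3,2,0,1,2,3,1,2,3,0,2,1,0,2,3,0],[([1,0,2],21),([1,0,2,3],33),([1,0,2,3,2,0,1,2],23),([],52)]),
  ([2,0,3,2,0,1,2,0,3,2,1,2,3,0,2,1,0,2,3,0,2,1],[([2],55),([],30),([1,2],52)]),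
  ([1,0],[([2,3,0],21),([2,3,0,2],19),([2,3,0,2],20),([2,3,0,2,0],22),([2,3,0,2,0,1],42),([2,3,0,2,0,1,2,3,2,0,1,2],22),([2,3,0,2,0,1,2,3],32),([2,3,0,2,0,1,2],20),([2,3,0,2,0,1,2,0,3,2,0,1,2],20),([2,3,0,2,0,1],56),([2,3,0,2,0,2,0],44),([2,3,0,2,0],26)]),
  ([0,1,0,1],[([0],58),([0],58)])]

theorem xk2c_ok : (KB.chk xk2c_cert [[0,1,0,1,0,1], [0,2,0,2,0,2], [1,2,1,2,1,2], [0,1,2,1,0,1,2,1,0,1,2,1], [3,0,3,0], [3,1,3,1], [3,2,3,2,3,2], [3,1,2,1,3,1,2,1,3,1,2,1], [3,2,0,1,0,2,3,2,0,1,0,2,3,2,0,1,0,2], [3,0,1,2,0,1,2,3,2,1,0,2,1,0]] &&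
    ([[0,1,0,1]] : List (List ℕ)).all fun w => (xk2c_cert.map Prod.fst).contains w) = true := by decide +kernel

/-- points perpendicular to a line of the plane are moved -/
theorem Q3.xk2c (h : Q3 E) {x a b y : G} (hx : x ∈ E) (ha : a ∈ E) (hb : b ∈ E) (hy : y ∈ E)
    (h1 : ¬ Commute x a)
    (h2 : ¬ Commute x b)
    (h3 : ¬ Commute a b)
    (h4 : ¬ Commute x (a * b * a))
    (h5 : Commute y x)
    (h6 : Commute y a)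
    (h7 : ¬ Commute y b)
    (h8 : ¬ Commute y (a * b * a))
    (h9 : ¬ Commute y (b * (x * a * x) * b))
    (h10 : Commute y (x * a * b * x * a * b))
    : Commute x a := by
  have K := KB.sound' (g := fun i => [x, a, b, y].getD i 1) (KB.getD_sq (by
    simp only [List.forall_mem_cons, KB.forall_nil, and_true]; exact ⟨h.sq _ hx, h.sq _ ha, h.sq _ hb, h.sq _ hy⟩)) (by
    simp only [List.forall_mem_cons, KB.forall_nil, and_true, KB.ev_cons, KB.ev_nil, List.getD_cons_zero, List.getD_cons_succ, mul_one]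
    exact ⟨by simpa only [mul_assoc] using h.cube hx ha h1,
      by simpa only [mul_assoc] using h.cube hx hb h2,
      by simpa only [mul_assoc] using h.cube ha hb h3,
      by simpa only [mul_assoc] using h.cube hx (h.cl _ ha _ hb) h4,
      by simpa only [mul_assoc] using h.four hy hx h5,
      by simpa only [mul_assoc] using h.four hy ha h6,
      by simpa only [mul_assoc] using h.cube hy hb h7,
      by simpa only [mul_assoc] using h.cube hy (h.cl _ ha _ hb) h8,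
      by simpa only [mul_assoc] using h.cube hy (h.cl _ hb _ (h.cl _ hx _ ha)) h9,
      by simpa only [mul_assoc, mul_inv_rev, inv_inv, h.inv hx, h.inv ha, h.inv hb, h.inv hy] using word_of_commute h10⟩) xk2c_ok
  simp only [List.forall_mem_cons, KB.forall_nil, and_true, KB.ev_cons, KB.ev_nil, List.getD_cons_zero, List.getD_cons_succ, mul_one] at K
  exact commute_of_word' (by simpa only [mul_assoc, mul_inv_rev, inv_inv, h.inv hx, h.inv ha, h.inv hb, h.inv hy] using K)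

def xk3_cert : List (List ℕ × List (List ℕ × ℕ)) :=
  [([3,0,3,0],[([],8)]),
  ([1,0,1,0,1,0],[([],1)]),
  ([2,0,2,0,2,0],[([],3)]),
  ([2,1,2,1,2,1],[([],5)]),
  ([2,1,0,2,0,2,0,1,2,1],[([2,1],23),([],24)]),
  ([2,0,1,2,1,2,1,0,2,0],[([2,0],25),([],22)]),
  ([3,1,3,1,3,1],[([],10)]),
  ([3,1,0,3,0,1,3,1],[([3,1],19),([],30)]),
  ([3,2,3,2,3,2],[([],12)]),
  ([3,2,0,3,0,2,3,2],[([3,2],19),([],34)]),
  ([3,2,1,3,1,3,1,2,3,2],[([3,2],31),([],34)]),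
  ([3,1,2,3,2,3,2,1,3,1],[([3,1],35),([],30)]),
  ([3,1,0,2,3,2,3,2,0,1,3,1],[([3,1,0],35),([],32)]),
  ([3,2,0,1,3,1,3,1,0,2,3,2],[([3,2,0],31),([],36)]),
  ([2,0,1,2,0,1,0,1,0,2,1,0,2,0],[([2,0,1,2],21),([],28)]),
  ([3,2,1,0,3,1,0,1,3,0,1,2,3,2],[([3,2,1],19),([3,2,1,3],21),([],38),([2,3,2,1],18)]),
  ([3,1,2,0,3,2,0,2,3,0,2,1,3,1],[([3,1,2],19),([3,1,2,3],23),([],40),([1,3,1,2],18)]),
  ([3,1,2,3,1,2,1,2,1,3,2,1,3,1],[([3,1,2,3],25),([],40)]),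
  ([1,2,0,1,0,2,0,1,0,2,1,0],[([],7),([0,1,2],20),([0,1,2,0,1,0,2],20)]),
  ([2,0,1,0,2,0,1,0,2,0,1,0],[([1],54),([],20)]),
  ([1,0,2,0,1,2,0,2,1,0,2,0],[([1],29),([1,2],21),([],25),([2],54),([],46)]),
  ([1,2,0,1,2,0,2,1,0,2,1,0],[([1,2,0,1,0],23),([],54)]),
  ([2,0,1,2,0,1,2,1,0,2,1,0],[([2],61),([],24),([1,2],20),([],54)]),
  ([1,2,1,0,2,1,2,0,1,2,1,0],[([1,2,0],21),([1,2,0,1,0],25),([],54),([0,1,2,0],20)]),
  ([2,1,0,2,1,0,1,2,0,1,2,0],[([1],27),([1,2,1,0,2],21),([],64),([0,1],26)]),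
  ([1,0,2,1,0,2,1,2,0,1,2,0],[([1],67),([],64),([0,1],26)]),
  ([1,0,2,0,1,0,2,0,1,0,2,0],[([1],23),([],25),([2,1],66),([],66),([0,2,1,0],24),([0,2],20)]),
  ([3,1,2,0,3,2,1,0,2,1,0,1,2,0,1,3,2,1,3,1],[([3,1,2],19),([3,1,2,3],67),([],40)]),
  ([3,1,2,1,3,1,2,1,3,1,2,1],[([],14)]),
  ([3,1,2,1,0,3,1,0,1,0,2,1,3,1,2,1],[([3,1,2,1],19),([3,1,2,1,3],21),([],74)]),
  ([2,3,2,1,3,2,3,1,2,3,2,1],[([],39),([3,1],75),([],30),([1],38)]),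
  ([3,1,2,1,3,2,1,2,3,1,2,1],[([3],25),([3,2,1],35),([2],78),([],24)]),
  ([3,1,2,3,1,2,1,3,2,1,3,2],[([3],25),([3,2],75),([],34),([2,3],24)]),
  ([2,3,1,2,3,1,3,2,1,3,2,1],[([],83),([],52),([1],82)]),
  ([3,2,1,3,2,1,2,3,1,2,3,1],[([2],39),([2,3,2,1,3],25),([],78),([1,2],38)]),
  ([2,1,3,2,1,3,2,3,1,2,3,1],[([2],87),([],78),([1,2],38)]),
  ([2,1,3,2,1,0,3,0,2,3,1,2,3,1],[([2,1,3,2,1],19),([],88)]),
  ([3,1,2,1,0,3,2,0,2,0,1,2,3,1,2,1],[([3,1,2,1],19),([3,1,2,1,3],23),([],80)]),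
  ([2,1,3,1,2,3,1,3,2,1,3,1],[([2],41),([2,3],25),([],35),([3,2],80),([3],24),([],40)]),
  ([2,1,3,1,2,0,3,0,1,3,2,1,3,1],[([2,1,3,1,2],19),([],94)]),
  ([3,1,2,3,1,0,2,0,2,3,0,2,1,3,2,1],[([3,1,2,3,1],23),([],82),([],84),([1,2,3,1,2],18)]),
  ([2,3,1,2,0,3,1,0,1,3,0,2,1,3,2,1],[([2,3,1,2],19),([2,3,1,2,3],21),([],84),([1,2,3,1,2],18)]),
  ([2,0,1,2,3,1,2,3,1,3,2,1,3,0,2,0],[([2,0],85),([],22)]),
  ([3,1,2,1,0,2,3,2,0,3,2,0,1,2,3,1,2,1],[([3,1,2,1,0],37),([],92)]),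
  ([2,0,1,2,3,1,2,0,3,0,1,3,2,1,3,0,2,0],[([2,0,1,2,3,1,2],19),([],102)]),
  ([3,1,2,0,3,1,2,1,0,1,2,1,3,0,2,1,3,2],[([3,1,2,0,3],25),([1],51),([1,3,1,2],19),([1,3,1,2,3],59),([1],98),([2,3,1,2,0,3],24)]),
  ([3,1,2,0,3,2,1,0,2,0,1,2,3,0,2,1,3,2],[([1],51),([1,3,1,2],19),([1,3,1,2,3],71),([1],98)]),
  ([2,1,3,2,0,1,0,2,3,1,2,3,2,1,3,2,1,0,2,3,1,2,3,1],[([2,1,3,2],21),([2,1,3,2,1,0],85),([2,1,3,2,1,0],83),([],90)]),
  ([3,1,0,2,1,0,3,1,2,3,1,3,2,1,3,0,1,2,3,0],[([2,1,3,1],73),([2,1,3,1,3,1,2,0,3,2,1,0],94),([2,1,3,1,3,1,2,0,3,2],20),([2,1,3,1],50)]),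
  ([1,0,2,1,0,3,1,2,3,1,3,2,1,3,0,1,2,0],[([3],114),([],18)]),
  ([1,0,2,1,0,3,1,2,0,3,0,1,3,2,1,3,0,1,2,0],[([1,0,2,1,0,3,1,2],19),([],116)]),
  ([2,3,1,2,0,3,2,1,0,3,1,2,3,1,3,2,1,3,0,1,2,3,0,2,1,3,2,1],[([],111),([3,1,2,0,3,2,1,0],84),([3,1,2,0,3,2],20),([],50),([1],110)]),
  ([2,3,1,2,0,3,2,1,0,3,1,2,0,3,1,0,1,3,0,2,1,3,0,1,2,3,0,2,1,3,2,1],[([],111),([3,1,2,0,3,2,1,0],100),([3,1,2,0,3,2],20),([],50),([1],110)]),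
  ([3,2,0,1,0,2,3,2,0,1,0,2,3,2,0,1,0,2],[([],16)]),
  ([2,0,1,0,2,3,2,0,1,2,0,2,3,1,0,2,0,1,3,0],[([],125),([3,2,0,1,0,2,3],22),([3,2,0,1,0,2],18),([3],56),([],18)]),
  ([2,0,1,3,1,0,2,0,3,1,3,0,2,0,1,3,1,0],[([2,0,1,3,1,0,2],19),([2,0],43),([2],19),([],35),([3,2],124),([],18),([0],42),([0,1,3,1,0,2],18)]),
  ([2,0,1,3,1,0,2,0,1,3,1,0,2,0,1,3,1,0],[([],128),([0,1,3,1,0,2,0],30)]),
  ([2,3,2,0,1,0,3,2,0,3,1,0,2,3,2,0,1,0],[([2,3,2,0,1],19),([],45),([3],130),([],18),([0],30),([0,1],18),([0,1,0],44)]),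
  ([2,3,2,0,1,0,2,3,2,0,1,0,2,3,2,0,1,0],[([2,3,2,0,1,0],35),([],132),([0,1,0,2,3,2,0,1],18)]),
  ([2,0,3,1,0,2,0,1,3,2,0,2,1,0,2,3,2,0,1,0],[([2],127)]),
  ([2,0,1,2,3,2,0,1,0,3,2,3,0,1,0,2,3,1,2,1],[([2,0,1,2,3,2,0,1],19),([2],21),([2,1],133),([],24)]),
  ([2,0,1,2,3,2,0,1,0,2,3,2,0,1,0,2,3,1,2,1],[([2],21),([2,1],135),([],24)]),
  ([2,0,3,1,0,2,0,1,3,1,0,2,0,1,3,0,2,0,1,0],[([],136),([0,1,0,2,3,2,0,1],22),([0,1,0,2,3],56),([0,1,0,2],18)]),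
  ([1,2,3,2,0,1,0,3,2,3,0,1,0,2,3,2,1,0],[([],25),([2],139)]),
  ([2,0,1,2,0,3,1,0,2,0,1,3,1,0,2,0,1,3,0,1,2,1],[([2,0,1,2],19),([2,0,1,2,3],57),([],140),([1,2,1,3,2,0,1,0,2],18),([1,2,1,3],56),([1,2,1],18)]),
  ([2,0,3,1,0,2,0,3,1,0,2,0,1,3,0,2,0,1,3,0],[([2],19),([2,3],57),([],37),([3],142),([],18)]),
  ([1,2,3,2,0,1,3,2,0,2,3,1,0,2,3,2,1,0],[([1,2,3,2,0,1,0],19),([1,2,3,2,0,1,0,3],23),([],144),([0,1,2,3,2,0,1,0],18)]),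
  ([1,2,3,2,0,1,2,3,2,0,2,3,2,1,0,2,3,2,1,0],[([1,2,3,2,0,1],37),([],150),([0,1,2,3,2,0,1],34)]),
  ([3,1,0,2,0,3,1,0,2,3,2,0,1,3,0,2,0,1],[([0],149),([0,2,0,3,1,0,2,0],32),([0],142)]),
  ([1,2,3,2,0,1,2,0,3,2,3,0,2,1,0,2,3,2,1,0],[([1,2,3,2,0,1,2],19),([1,2,3,2,0,1,2,3],23),([],152),([0,1,2,3,2,0,1,2],18)]),
  ([2,0,1,2,3,2,0,1,2,0,3,2,3,0,2,1,0,2,3,1,2,1],[([2],157),([],24)]),
  ([2,0,3,2,1,0,2,3,2,0,1,0,2,3,2,0,1,2,3,0],[([2],19),([2,3],23),([],37),([3,2,0],124),([3],22),([],18)]),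
  ([3,2,1,0,2,3,2,0,1,2,3,2,0,1,2,3,2,1,0,2],[([0],161),([0,2,0,3,2,1,0,2,3],22),([0,2,0,3,2,1,0,2],18),([0,2,0,3],26),([0,2,0],104),([0],28)]),
  ([1,0,3,1,2,0,3,1,0,2,3,2,0,1,3,0,2,1,3,0],[([1],19),([1,3],21),([],33),([3,1,0],154),([3],20),([],18)]),
  ([3,1,2,0,1,2,3,2,1,0,2,3,2,1,3,2,0,1,2,3,1,2],[([3,1],163),([],30),([1],104)]),
  ([3,0,1,2,0,1,2,3,2,1,0,2,1,0,3,0,1,2,0,1,2,3,2,1,0,2,1,0],[([],18),([0],166),([0,2,1,3,2,1,0],84),([0,2,1,3,2],20),([0],112),([0,1,3,2,1,3],106),([0,1,3,2,1],18),([0,1,3,2,1,0],36),([0,1],162)]),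
  ([1,0,3,0,1,2,0,1,2,3,2,1,0,2,1,0,0,1,2,0,1,2,0,1,2,0,1,2,3,2,1,0,2,1,0,2,1,0,2,1,0,1,0,1,2,0,1,2,0,1,2,0,1,2,3,2,1,0,2,1,0,2,1,0,2,1,0,0,1,2,0,1,2,3,2,1,0,2,1,0,3,0],[([1,0],18),([1,3,1,2,0,1,2],18),([1,3],60),([1],18),([1,0,3,1,2,0,1,2],166),([1,0],110),([1,0],120),([],20),([0,1,0,2,3,1,2,0,3,2,1,0,3,1,2],18),([0,1,0,2,3,1,2,0,3,2,1,0],110),([0,1,0,2],110),([0,1,0,3,1,2,0,3,2,1,0,3,1,2,0,3,2],20),([0,1,0,3,1,2,0,3,2,1,0,3,1,2,0,3],24),([0,1,0,3,1,2,0,3,2,1,0],108),([0,1,0],110),([0,1,0],122),([0],20),([1,0,2,3,1,2,0,3,2,1,0],50),([1,0,2,3,1,2,0,3,2],20),([1,0,2],50),([1,0],96),([],20),([0,1,0,3,1,2,3],118),([0,1,0,3,1,2],18),([0,1,0,3,1,2,0,3,2,1,0,3,1,2,3,1,0],24),([0,1,0,3,1,2,0,3,2,1,0,3,1,2,3],20),([0,1,0,3,1,2,0,3,2,1,0,3,1,2],18),([0,1,0,3,1,2,0,3,2],164),([0,1,0],50),([0],20),([1,0,3,1,2,0],34),([1,0,3,1],22),([1,0,3,1,0,2,0,3],24),([1,0,3,1,0,2,0],76),([1,0,3],58),([1,0],18),([1,3],62),([1],18),([1,0,3,1,2,0,1,2,3,1,2,0,1,2],30),([1,0,3,1,2,0,1,2,3,1],28),([1,0,3,1,2,0,1,2,3],58),([1,0,3,1,2,0,1,2],18),([1,0,3],60),([1,0],18),([1,3,1],158),([1,3,2,1,3,2,0,1,2,0,3],24),([1,3,2,1,3,2,0,1,2,0,3,1],22),([1,3,2,1,3],146),([1],38),([1],78),([2],38),([3,2,1],18),([3,2],20),([3],62),([],18),([0,3,1,2,0,1,2],18),([0,3],60)]),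
  ([2,0,3,0,1,2,0,1,2,3,2,1,0,2,1,0,0,1,2,0,1,2,0,1,2,0,1,2,3,2,1,0,2,1,0,2,1,0,2,1,0,2,0,1,2,0,1,2,0,1,2,0,1,2,3,2,1,0,2,1,0,2,1,0,2,1,0,0,1,2,0,1,2,3,2,1,0,2,1,0,3,0],[([2,0],18),([2,3,1,2,0,1,2],18),([2,3],60),([2],18),([2,0,3,1,2,0,1,2],166),([2,0],110),([],22),([0,2,0,3,1,2,0,3,2,1,0,3,1,2,3],68),([0,2,0,3,1,2,0,3,2,1,0,3,1,2],18),([0,2,0,3,1,2,0,3,2,1,0],110),([0,2,0],110),([0],22),([2,0,3,1,2,0,3,2,1,0,3,1,2,0,3],24),([2,0,3,1,2,0,3,2,1,0],108),([2,0],110),([],22),([0,2,0,3,1,2,0,3,2,1,0,3,1,2,0,3],20),([0,2,0,3,1,2,0,3,2,1,0,3,1,2,0],18),([0,2,0,3,1,2,0,3,2,1,0],98),([0,2,0,3,1,2,0,3,2],20),([0,2,0],50),([0,2,0,1],110),([0],106),([2,0,3,1,2,3],118),([2,0,3,1,2],18),([2,0,3,1,2,0,3,2,1,0,3,1,2,3,1,0],24),([2,0,3,1,2,0,3,2,1,0,3,1,2,3],20),([2,0,3,1,2,0,3,2,1,0,3,1,2],18),([2,0,3,1,2,0,3,2],164),([2,0],50),([2,0,1,3,1,2,0],34),([2,0,1,3,1],22),([],128),([0,1,3,1,0,2,0,3,1],24),([0,1,3,1,0,2,0],48),([0,1,3,1,0],22),([0,1,3,1,2,0,3,2,1,0,3,1,2,3],20),([0,1,3,1,2,0,3,2,1,0,3,1,2],18),([0,1,3,1,2,0,3,2],164),([0,1],50),([0,3,1,2,0],34),([0,3,1],22),([0,3,1,0,2,0,3],24),([0,3,1,0,2,0],76),([0,3],58),([0],18),([3],62),([],18),([0,3,1,2,0,1,2],18),([0,3],60)])]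

theorem xk3_ok : (KB.chk xk3_cert [[0,1,0,1,0,1], [0,2,0,2,0,2], [1,2,1,2,1,2], [0,1,2,1,0,1,2,1,0,1,2,1], [3,0,3,0], [3,1,3,1,3,1], [3,2,3,2,3,2], [3,1,2,1,3,1,2,1,3,1,2,1], [3,2,0,1,0,2,3,2,0,1,0,2,3,2,0,1,0,2]] &&
    ([[3,0,1,2,0,1,2,3,2,1,0,2,1,0,3,0,1,2,0,1,2,3,2,1,0,2,1,0], [1,0,3,0,1,2,0,1,2,3,2,1,0,2,1,0,0,1,2,0,1,2,0,1,2,0,1,2,3,2,1,0,2,1,0,2,1,0,2,1,0,1,0,1,2,0,1,2,0,1,2,0,1,2,3,2,1,0,2,1,0,2,1,0,2,1,0,0,1,2,0,1,2,3,2,1,0,2,1,0,3,0], [2,0,3,0,1,2,0,1,2,3,2,1,0,2,1,0,0,1,2,0,1,2,0,1,2,0,1,2,3,2,1,0,2,1,0,2,1,0,2,1,0,2,0,1,2,0,1,2,0,1,2,0,1,2,3,2,1,0,2,1,0,2,1,0,2,1,0,0,1,2,0,1,2,3,2,1,0,2,1,0,3,0]] : List (List ℕ)).all fun w => (xk3_cert.map Prod.fst).contains w) = true := by decide +kernel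

/-- tangent points -/
theorem Q3.xk3 (h : Q3 E) {x a b p : G} (hx : x ∈ E) (ha : a ∈ E) (hb : b ∈ E) (hp : p ∈ E)
    (h1 : ¬ Commute x a)
    (h2 : ¬ Commute x b)
    (h3 : ¬ Commute a b)
    (h4 : ¬ Commute x (a * b * a))
    (h5 : Commute p x)
    (h6 : ¬ Commute p a)
    (h7 : ¬ Commute p b)
    (h8 : ¬ Commute p (a * b * a))
    (h9 : ¬ Commute p (b * (x * a * x) * b))
    : Commute p ((x * a * b * x * a * b) * p * (x * a * b * x * a * b)⁻¹) ∧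
      Commute a (x * p * ((x * a * b * x * a * b) * p * (x * a * b * x * a * b)⁻¹) * ((x * a * b * x * a * b) * ((x * a * b * x * a * b) * p * (x * a * b * x * a * b)⁻¹) * (x * a * b * x * a * b)⁻¹)) ∧
      Commute b (x * p * ((x * a * b * x * a * b) * p * (x * a * b * x * a * b)⁻¹) * ((x * a * b * x * a * b) * ((x * a * b * x * a * b) * p * (x * a * b * x * a * b)⁻¹) * (x * a * b * x * a * b)⁻¹)) := by
  have K := KB.sound' (g := fun i => [x, a, b, p].getD i 1) (KB.getD_sq (by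
    simp only [List.forall_mem_cons, KB.forall_nil, and_true]; exact ⟨h.sq _ hx, h.sq _ ha, h.sq _ hb, h.sq _ hp⟩)) (by
    simp only [List.forall_mem_cons, KB.forall_nil, and_true, KB.ev_cons, KB.ev_nil, List.getD_cons_zero, List.getD_cons_succ, mul_one]
    exact ⟨by simpa only [mul_assoc] using h.cube hx ha h1,
      by simpa only [mul_assoc] using h.cube hx hb h2,
      by simpa only [mul_assoc] using h.cube ha hb h3,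
      by simpa only [mul_assoc] using h.cube hx (h.cl _ ha _ hb) h4,
      by simpa only [mul_assoc] using h.four hp hx h5,
      by simpa only [mul_assoc] using h.cube hp ha h6,
      by simpa only [mul_assoc] using h.cube hp hb h7,
      by simpa only [mul_assoc] using h.cube hp (h.cl _ ha _ hb) h8,
      by simpa only [mul_assoc] using h.cube hp (h.cl _ hb _ (h.cl _ hx _ ha)) h9⟩) xk3_ok
  simp only [List.forall_mem_cons, KB.forall_nil, and_true, KB.ev_cons, KB.ev_nil, List.getD_cons_zero, List.getD_cons_succ, mul_one] at K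
  exact ⟨commute_of_word' (by simpa only [mul_assoc, mul_inv_rev, inv_inv, h.inv hx, h.inv ha, h.inv hb, h.inv hp] using K.1),
    commute_of_word' (by simpa only [mul_assoc, mul_inv_rev, inv_inv, h.inv hx, h.inv ha, h.inv hb, h.inv hp] using K.2.1),
    commute_of_word' (by simpa only [mul_assoc, mul_inv_rev, inv_inv, h.inv hx, h.inv ha, h.inv hb, h.inv hp] using K.2.2)⟩

def xk3c_cert : List (List ℕ × List (List ℕ × ℕ)) :=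
  [([3,0,3,0],[([],8)]),
  ([1,0,1,0,1,0],[([],1)]),
  ([2,0,2,0,2,0],[([],3)]),
  ([2,1,2,1,2,1],[([],5)]),
  ([2,1,0,2,0,2,0,1,2,1],[([2,1],25),([],26)]),
  ([2,0,1,2,1,2,1,0,2,0],[([2,0],27),([],24)]),
  ([3,1,3,1,3,1],[([],10)]),
  ([3,1,0,3,0,1,3,1],[([3,1],21),([],32)]),
  ([3,2,3,2,3,2],[([],12)]),
  ([3,2,0,3,0,2,3,2],[([3,2],21),([],36)]),
  ([3,2,1,3,1,3,1,2,3,2],[([3,2],33),([],36)]),
  ([3,1,2,3,2,3,2,1,3,1],[([3,1],37),([],32)]),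
  ([3,2,0,1,3,1,3,1,0,2,3,2],[([3,2,0],33),([],38)]),
  ([2,0,1,2,0,1,0,1,0,2,1,0,2,0],[([2,0,1,2],23),([],30)]),
  ([1,2,0,1,0,2,0,1,0,2,1,0],[([],7),([0,1,2],22),([0,1,2,0,1,0,2],22)]),
  ([2,0,1,0,2,0,1,0,2,0,1,0],[([1],48),([],22)]),
  ([1,0,2,0,1,2,0,2,1,0,2,0],[([1],31),([1,2],23),([],27),([2],48),([],46)]),
  ([1,2,0,1,2,0,2,1,0,2,1,0],[([1,2,0,1,0],25),([],48)]),
  ([1,2,1,0,2,1,2,0,1,2,1,0],[([1,2,0],23),([1,2,0,1,0],27),([],48),([0,1,2,0],22)]),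
  ([2,1,0,2,1,0,1,2,0,1,2,0],[([1],29),([1,2,1,0,2],23),([],56),([0,1],28)]),
  ([3,1,2,1,3,1,2,1,3,1,2,1],[([],14)]),
  ([2,3,2,1,3,2,3,1,2,3,2,1],[([],41),([3,1],61),([],32),([1],40)]),
  ([3,1,2,1,3,2,1,2,3,1,2,1],[([3],27),([3,2,1],37),([2],62),([],26)]),
  ([2,1,3,1,2,3,1,3,2,1,3,1],[([2],43),([2,3],27),([],37),([3,2],64),([3],26),([],42)]),
  ([2,1,3,1,2,0,3,0,1,3,2,1,3,1],[([2,1,3,1,2],21),([],66)]),
  ([3,1,2,0,1,2,3,2,1,0,2,1],[([0],21),([0,3],55),([0,3,1,2,0,1,2],21),([0,3,1,2,0,1,2,3],59),([],21),([],18)]),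
  ([1,2,0,1,2,3,1,0,2,1,0,2,3,0],[([],71),([3,1],30),([3],52),([],20)]),
  ([3,2,0,1,2,3,2,1,0,2,3,1],[([3,1],71),([],32)]),
  ([3,2,0,1,2,0,3,0,2,1,0,2,3,1],[([3,2,0,1,2],21),([],74)]),
  ([2,0,1,2,0,3,1,0,2,1,0,2,3,1],[([0],53),([0,1],31),([0,1,2,0,1,2],33),([0],72),([],76)]),
  ([3,2,0,1,3,2,3,1,0,2,3,1],[([3,2,0,1,2],37),([],74)]),
  ([2,0,1,2,3,2,1,0,2,1,3,1],[([2,0,1],37),([3],80),([],32)]),
  ([2,1,3,1,2,0,1,2,3,2,1,0],[([2],83)]),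
  ([1,3,1,2,3,1,0,3,1,2,3,2,1,0],[([],69),([],84)]),
  ([2,1,3,2,0,1,2,0,1,3,0,2,1,0],[([2],79)]),
  ([2,0,1,3,1,2,0,1,2,3,1,2,1,0],[([2,0],83),([],24),([0],26)]),
  ([1,2,3,2,1,0,2,1,3,1,2,0],[([1],37),([],33),([3],86),([],20),([0],42),([0,1,3,1,2],32),([0,1],60)]),
  ([2,1,3,2,0,1,0,2,3,1,2,0],[([2,1,3,2,0,1],21),([2],81),([],45),([3],90),([],20),([0],64),([0,1,2,1],36),([0,1],26)]),
  ([2,1,0,3,2,1,3,0,2,1],[([2,1],21),([2,1,3],25),([0],95),([0],88)]),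
  ([2,1,0,3,1,2,3,0],[([1],27),([1,2],97)]),
  ([1,2,0,3,2,1,3,0],[([],97),([],98),([0,3],26)]),
  ([2,3,2,1,3,0,1,0,2,0],[([2,0],99),([],24)]),
  ([1,3,1,2,3,0,2,0,1,0],[([1,0],101),([],22)]),
  ([3,2,1,3,0,1,2,0],[([2],102),([],24)]),
  ([2,1,3,1,0,1,0,2,3,0],[([2],33),([],37),([3],102),([],20)]),
  ([3,1,2,3,0,2,1,0],[([1],104),([],22)]),
  ([2,3,2,1,0,3,1,0,2,0],[([],37),([3,2,1],35),([],106),([0,2],22)]),
  ([1,0,2,0,1,3,2,1,3,1,2,0],[([1],113),([],92)]),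
  ([3,2,1,0,3,1,2,0],[([2],112),([],24)]),
  ([3,2,0,1,0,1,3,1,2,0],[([3,2],23),([],116)]),
  ([3,0],[([],17),([],118),([0,2,1],110),([0,2],22),([0],50),([],52),([0],30),([2,0,1],24),([],50),([0],114),([],108)]),
  ([3,0],[([],120)])]

theorem xk3c_ok : (KB.chk xk3c_cert [[0,1,0,1,0,1], [0,2,0,2,0,2], [1,2,1,2,1,2], [0,1,2,1,0,1,2,1,0,1,2,1], [3,0,3,0], [3,1,3,1,3,1], [3,2,3,2,3,2], [3,1,2,1,3,1,2,1,3,1,2,1], [3,2,0,1,0,2,3,2,0,1,0,2,3,2,0,1,0,2], [3,0,1,2,0,1,2,3,2,1,0,2,1,0]] &&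
    ([[3,0]] : List (List ℕ)).all fun w => (xk3c_cert.map Prod.fst).contains w) = true := by decide +kernel

/-- tangent points are moved -/
theorem Q3.xk3c (h : Q3 E) {x a b p : G} (hx : x ∈ E) (ha : a ∈ E) (hb : b ∈ E) (hp : p ∈ E)
    (h1 : ¬ Commute x a)
    (h2 : ¬ Commute x b)
    (h3 : ¬ Commute a b)
    (h4 : ¬ Commute x (a * b * a))
    (h5 : Commute p x)
    (h6 : ¬ Commute p a)
    (h7 : ¬ Commute p b)
    (h8 : ¬ Commute p (a * b * a))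
    (h9 : ¬ Commute p (b * (x * a * x) * b))
    (h10 : Commute p (x * a * b * x * a * b))
    : p = x := by
  have K := KB.sound' (g := fun i => [x, a, b, p].getD i 1) (KB.getD_sq (by
    simp only [List.forall_mem_cons, KB.forall_nil, and_true]; exact ⟨h.sq _ hx, h.sq _ ha, h.sq _ hb, h.sq _ hp⟩)) (by
    simp only [List.forall_mem_cons, KB.forall_nil, and_true, KB.ev_cons, KB.ev_nil, List.getD_cons_zero, List.getD_cons_succ, mul_one]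
    exact ⟨by simpa only [mul_assoc] using h.cube hx ha h1,
      by simpa only [mul_assoc] using h.cube hx hb h2,
      by simpa only [mul_assoc] using h.cube ha hb h3,
      by simpa only [mul_assoc] using h.cube hx (h.cl _ ha _ hb) h4,
      by simpa only [mul_assoc] using h.four hp hx h5,
      by simpa only [mul_assoc] using h.cube hp ha h6,
      by simpa only [mul_assoc] using h.cube hp hb h7,
      by simpa only [mul_assoc] using h.cube hp (h.cl _ ha _ hb) h8,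
      by simpa only [mul_assoc] using h.cube hp (h.cl _ hb _ (h.cl _ hx _ ha)) h9,
      by simpa only [mul_assoc, mul_inv_rev, inv_inv, h.inv hx, h.inv ha, h.inv hb, h.inv hp] using word_of_commute h10⟩) xk3c_ok
  simp only [List.forall_mem_cons, KB.forall_nil, and_true, KB.ev_cons, KB.ev_nil, List.getD_cons_zero, List.getD_cons_succ, mul_one] at K
  exact eq_of_word' (by simpa only [mul_assoc, mul_inv_rev, inv_inv, h.inv hx, h.inv ha, h.inv hb, h.inv hp] using K)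

def xk4_cert : List (List ℕ × List (List ℕ × ℕ)) :=
  [([2,1,2,1],[([],7)]),
  ([3,2,3,2],[([],11)]),
  ([1,0,1,0,1,0],[([],1)]),
  ([2,0,1,0,1,0,2,1],[([2],17),([],12)]),
  ([2,0,2,0,2,0],[([],3)]),
  ([3,0,2,0,2,0,3,2],[([3],21),([],14)]),
  ([3,0,3,0,3,0],[([],5)]),
  ([1,0,1,2,3,0,3,2,1,0,1,0,1,2,3,0,3,2,1,0],[([],16),([0,1,0,2],24),([0,1,0,2,0,3,0],12),([0,1,0,2,0,3,0,1],18),([0,1,0,2,0],22),([0,1,0],20),([0,1,2,0],24)])]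

theorem xk4_ok : (KB.chk xk4_cert [[0,1,0,1,0,1], [0,2,0,2,0,2], [0,3,0,3,0,3], [1,2,1,2], [1,3,1,3], [2,3,2,3]] &&
    ([[1,0,1,2,3,0,3,2,1,0,1,0,1,2,3,0,3,2,1,0]] : List (List ℕ)).all fun w => (xk4_cert.map Prod.fst).contains w) = true := by decide +kernel

/-- the highest root of D4 -/
theorem Q3.xk4 (h : Q3 E) {d p q r : G} (hd : d ∈ E) (hp : p ∈ E) (hq : q ∈ E) (hr : r ∈ E)
    (h1 : ¬ Commute d p)
    (h2 : ¬ Commute d q)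
    (h3 : ¬ Commute d r)
    (h4 : Commute p q)
    (h5 : Commute p r)
    (h6 : Commute q r)
    : Commute p (d * ((p * q * r) * d * (p * q * r)⁻¹) * d) := by
  have K := KB.sound' (g := fun i => [d, p, q, r].getD i 1) (KB.getD_sq (by
    simp only [List.forall_mem_cons, KB.forall_nil, and_true]; exact ⟨h.sq _ hd, h.sq _ hp, h.sq _ hq, h.sq _ hr⟩)) (by
    simp only [List.forall_mem_cons, KB.forall_nil, and_true, KB.ev_cons, KB.ev_nil, List.getD_cons_zero, List.getD_cons_succ, mul_one]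
    exact ⟨by simpa only [mul_assoc] using h.cube hd hp h1,
      by simpa only [mul_assoc] using h.cube hd hq h2,
      by simpa only [mul_assoc] using h.cube hd hr h3,
      by simpa only [mul_assoc] using h.four hp hq h4,
      by simpa only [mul_assoc] using h.four hp hr h5,
      by simpa only [mul_assoc] using h.four hq hr h6⟩) xk4_ok
  simp only [List.forall_mem_cons, KB.forall_nil, and_true, KB.ev_cons, KB.ev_nil, List.getD_cons_zero, List.getD_cons_succ, mul_one] at K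
  exact commute_of_word' (by simpa only [mul_assoc, mul_inv_rev, inv_inv, h.inv hd, h.inv hp, h.inv hq, h.inv hr] using K)

end H56
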